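import Mathlib
import Groth.Agent.RefRank.Norm.Normal
import Groth.Agent.PicAux.Sections
import Groth.Agent.CohTwo.ColimStalk
import Groth.Prelude.Def_Coh

/-!
# The trace `f_* O_X → O_Y` of a finite surjection onto a normal integral scheme
-/

set_option linter.style.haveILetI false
set_option backward.isDefEq.respectTransparency.types false

universe u

open CategoryTheory Limits AlgebraicGeometry Opposite TopologicalSpace Coh

namespace Groth.Curves1.TraceMap

open Groth.PicAux Groth.RefRank

variable {X Y : Scheme.{u}} [IsIntegral X] [IsIntegral Y] (π : X ⟶ Y) [IsFinite π] [Surjective π]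

/-- The algebra of function fields. -/
@[implicit_reducible]
noncomputable def ffAlg : Algebra Y.functionField X.functionField := (ffMap π).hom.toAlgebra

/-- The trace of function fields. -/
noncomputable def ffTrace : X.functionField →+ Y.functionField :=
  letI := ffAlg π
  (Algebra.trace Y.functionField X.functionField).toAddMonoidHom

theorem ffTrace_mul (a : Y.functionField) (b : X.functionField) :
    ffTrace π (ffMap π a * b) = a * ffTrace π b := by
  letI := ffAlg π
  show Algebra.trace _ _ (algebraMap Y.functionField X.functionField a * b) = _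
  rw [← Algebra.smul_def, map_smul]
  rfl

theorem finiteDimensional : letI := ffAlg π; FiniteDimensional Y.functionField X.functionField := by
  letI := ffAlg π
  exact Module.finite_of_finrank_pos (ffDeg_pos π)

variable (hY : Pi1.IsNormalScheme Y)

include hY in
/-- The trace of a function regular above an affine open is regular there. -/
theorem exists_trace_affine {V : Y.Opens} (hV : IsAffineOpen V) [Nonempty V] (b : Γ(X, π ⁻¹ᵁ V)) :
    haveI := nonempty_preimage π V
    ∃ a : Γ(Y, V), Y.germToFunctionField V a = ffTrace π (X.germToFunctionField (π ⁻¹ᵁ V) b) := by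
  haveI := nonempty_preimage π V
  letI := ffAlg π
  letI := (π.app V).hom.toAlgebra
  letI : Algebra Γ(Y, V) X.functionField :=
    ((X.germToFunctionField (π ⁻¹ᵁ V)).hom.comp (π.app V).hom).toAlgebra
  have : IsScalarTower Γ(Y, V) Γ(X, π ⁻¹ᵁ V) X.functionField := IsScalarTower.of_algebraMap_eq' rfl
  have : IsScalarTower Γ(Y, V) Y.functionField X.functionField :=
    IsScalarTower.of_algebraMap_eq fun g => (ffMap_germ π V g).symm
  have := functionField_isFractionRing_of_isAffineOpen Y V hV
  have : Module.Finite Γ(Y, V) Γ(X, π ⁻¹ᵁ V) := IsFinite.finite_app (f := π) V hV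
  have : IsIntegrallyClosed Γ(Y, V) := Groth.Variety2.isIntegrallyClosed_Γ (fun y => (hY y).2) V
  have hb : IsIntegral Γ(Y, V) b := Algebra.IsIntegral.isIntegral b
  have := finiteDimensional π
  exact IsIntegrallyClosed.isIntegral_iff.1
    (Algebra.isIntegral_trace (R := Γ(Y, V)) (L := Y.functionField) (F := X.functionField)
      (hb.algebraMap (B := X.functionField)))

include hY in
theorem exists_trace (U : Y.Opens) (s : Γ(X, π ⁻¹ᵁ U)) :
    ∃! t : Γ(Y, U), ∀ (_ : Nonempty U), haveI := nonempty_preimage π U
      Y.germToFunctionField U t = ffTrace π (X.germToFunctionField (π ⁻¹ᵁ U) s) := by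
  by_cases hU : Nonempty U
  swap
  · have : U = ⊥ := eq_bot_iff.2 fun y hy => (hU ⟨⟨y, hy⟩⟩).elim
    haveI : Subsingleton Γ(Y, U) :=
      CommRingCat.subsingleton_of_isTerminal (Y.sheaf.isTerminalOfEqEmpty this)
    exact ⟨0, fun h => (hU h).elim, fun _ _ => Subsingleton.elim _ _⟩
  haveI := nonempty_preimage π U
  obtain ⟨t, ht⟩ := Groth.Variety2.exists_section_of_forall_stalk U
    (ffTrace π (X.germToFunctionField (π ⁻¹ᵁ U) s)) fun y hy => by
      obtain ⟨V, hV, hyV, hVU⟩ := exists_isAffineOpen_mem_and_subset hy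
      have hne : Nonempty V := ⟨⟨y, hyV⟩⟩
      have := nonempty_preimage π V
      obtain ⟨a, ha⟩ := exists_trace_affine π hY hV (resX X (π.preimage_mono (show V ≤ U from hVU)) s)
      refine ⟨Y.presheaf.germ V y hyV a, ?_⟩
      rw [Scheme.algebraMap_germ_eq_germToFunctionField, ha, resX_germFF]
  exact ⟨t, fun _ => ht, fun t' ht' => Y.germToFunctionField_injective U ((ht' hU).trans ht.symm)⟩

/-- The trace of a function. -/
noncomputable def trFun (U : Y.Opens) (s : Γ(X, π ⁻¹ᵁ U)) : Γ(Y, U) :=
  (exists_trace π hY U s).choose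

theorem trFun_spec (U : Y.Opens) [hU : Nonempty U] (s : Γ(X, π ⁻¹ᵁ U)) :
    haveI := nonempty_preimage π U
    Y.germToFunctionField U (trFun π hY U s) = ffTrace π (X.germToFunctionField (π ⁻¹ᵁ U) s) :=
  (exists_trace π hY U s).choose_spec.1 hU

theorem eq_trFun {U : Y.Opens} {s : Γ(X, π ⁻¹ᵁ U)} {t : Γ(Y, U)}
    (h : ∀ (_ : Nonempty U), haveI := nonempty_preimage π U
      Y.germToFunctionField U t = ffTrace π (X.germToFunctionField (π ⁻¹ᵁ U) s)) :
    t = trFun π hY U s :=
  (exists_trace π hY U s).choose_spec.2 t h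

theorem trFun_add (U : Y.Opens) (s s' : Γ(X, π ⁻¹ᵁ U)) :
    trFun π hY U (s + s') = trFun π hY U s + trFun π hY U s' :=
  (eq_trFun π hY fun hU => by
    haveI := nonempty_preimage π U
    rw [map_add, map_add, map_add, trFun_spec π hY U s, trFun_spec π hY U s']).symm

theorem trFun_res {U V : Y.Opens} (h : V ≤ U) (s : Γ(X, π ⁻¹ᵁ U)) :
    resX Y h (trFun π hY U s) = trFun π hY V (resX X (π.preimage_mono h) s) := by
  refine eq_trFun π hY fun hV => ?_
  have hU : Nonempty U := ⟨⟨hV.some.1, h hV.some.2⟩⟩
  haveI := nonempty_preimage π U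
  haveI := nonempty_preimage π V
  rw [resX_germFF, resX_germFF, trFun_spec π hY U s]

theorem trFun_smul (U : Y.Opens) (r : Γ(Y, U)) (s : Γ(X, π ⁻¹ᵁ U)) :
    trFun π hY U (π.app U r * s) = r * trFun π hY U s :=
  (eq_trFun π hY fun hU => by
    haveI := nonempty_preimage π U
    rw [map_mul, map_mul, trFun_spec π hY U s, ← ffMap_germ π U r, ffTrace_mul]).symm

/-- **The trace** `f_* O_X → O_Y`. -/
noncomputable def trace :
    (Scheme.Modules.pushforward π).obj (structureModule X) ⟶ structureModule Y :=
  ⟨PresheafOfModules.homMk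
    { app := fun W => AddCommGrpCat.ofHom (AddMonoidHom.mk'
        (fun (s : Γ(X, π ⁻¹ᵁ W.unop)) => (show Γ(Y, W.unop) from trFun π hY W.unop s))
        (trFun_add π hY W.unop))
      naturality := fun W W' i => by
        ext s
        exact (trFun_res π hY (leOfHom i.unop) s).symm }
    (fun W r s => trFun_smul π hY W.unop r s)⟩

theorem trace_app (U : Y.Opens) (s : Γ(X, π ⁻¹ᵁ U)) :
    toFun ((trace π hY).app U s) = trFun π hY U s := rfl

end Groth.Curves1.TraceMap
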