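import Mathlib
import Groth.Agent.Curves1.Trace.Basic
import Groth.Agent.Curves1.RR.ReducedRestrict
import Groth.Agent.RefRank.Stalk
import Groth.Agent.Curves1.RR.PullDeg
import Groth.Agent.Curves1.RR.EtaleGenusZero
import Groth.Agent.CohC3.PushPull

/-!
# Genus and finite separable morphisms of normal curves

For a finite surjection `f : X ⟶ Y` of proper integral curves with `Y` normal and separable function
fields, `Γ(X, O) / Γ(Y, O)` has some degree `m`, and the traces against a basis give a surjection
`H¹(X, O) → H¹(Y, O) ^ m`.
-/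

set_option linter.style.haveILetI false
set_option backward.isDefEq.respectTransparency.types false

universe u

open CategoryTheory Limits AlgebraicGeometry Opposite TopologicalSpace Coh

namespace Groth.Curves1.TraceMap

open Groth.PicAux Groth.RefRank Groth.EulerDeg
open Groth.CohTwo (stalkLin stalkLin_germ stalkLin_comp)
open Groth.ModelsGraphs.DualExtend (smulHom smulHom_app cAt)
open Groth.Curves1.RR (hMap_add)

attribute [local instance] secModule

local instance nonemptyTop {Z : Scheme.{u}} [IsIntegral Z] : Nonempty (⊤ : Z.Opens) :=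
  ⟨⟨Classical.arbitrary Z, trivial⟩⟩

local instance hasBiprods {Z : Scheme.{u}} : HasFiniteBiproducts Z.Modules :=
  Abelian.hasFiniteBiproducts

/-- The trace against an independent family is surjective. -/
theorem surjective_trace_family {K L : Type u} [Field K] [Field L] [Algebra K L]
    [FiniteDimensional K L] [Algebra.IsSeparable K L] {ι : Type*} [Fintype ι] {x : ι → L}
    (hx : LinearIndependent K x) :
    Function.Surjective
      (LinearMap.pi fun i => (Algebra.trace K L).comp (LinearMap.mulLeft K (x i))) := by
  classical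
  rw [← LinearMap.range_eq_top]
  by_contra h
  obtain ⟨φ, hφ, hle⟩ := Submodule.exists_le_ker_of_lt_top _ (lt_top_iff_ne_top.2 h)
  let lam : ι → K := fun i => φ (Pi.single i 1)
  have hsum : ∑ i, lam i • x i = 0 := by
    by_contra hne
    refine hne ((traceForm_nondegenerate K L).1 _ fun b => ?_)
    have h1 : φ (fun i => Algebra.trace K L (x i * b)) = 0 := hle ⟨b, rfl⟩
    rw [pi_eq_sum_univ' (fun i => Algebra.trace K L (x i * b)), map_sum] at h1
    rw [Algebra.traceForm_apply, Finset.sum_mul, map_sum]
    refine Eq.trans (Finset.sum_congr rfl fun i _ => ?_) h1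
    rw [smul_mul_assoc, map_smul, map_smul, smul_eq_mul, smul_eq_mul, mul_comm]
  refine hφ (LinearMap.pi_ext fun i c => ?_)
  have h2 : lam i = 0 := Fintype.linearIndependent_iff.1 hx lam hsum i
  rw [← mul_one c, ← smul_eq_mul, Pi.single_smul, map_smul, show φ (Pi.single i 1) = 0 from h2,
    smul_zero, LinearMap.zero_apply]

variable (k : Type u) [Field k] {X Y : Scheme.{u}} [X.Over (Spec (CommRingCat.of k))]
  [Y.Over (Spec (CommRingCat.of k))]

theorem finrank_h0_eq (algk : k →+* Γ(X, ⊤))
    (halg : algk = toGlobal (X ↘ Spec (CommRingCat.of k))) :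
    letI := algk.toAlgebra
    Module.finrank k (HH X (structureModule X) 0) = Module.finrank k Γ(X, ⊤) := by
  subst halg
  letI : Algebra k Γ(X, ⊤) :=
    RingHom.toAlgebra (show k →+* Γ(X, ⊤) from toGlobal (X ↘ Spec (CommRingCat.of k)))
  let e₀ : Γ(structureModule X, (⊤ : X.Opens)) ≃ₗ[k] Γ(X, ⊤) :=
    { (Equiv.refl _ : Γ(X, ⊤) ≃ Γ(X, ⊤)) with
      toFun := fun x => toFun x
      invFun := fun x => x
      map_add' := fun _ _ => rfl
      map_smul' := fun a x => by
        show toFun (a • x) = _
        rw [smul_sec, toFun_smul]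
        exact congrArg (· * toFun x) (resX_self _ _) }
  exact (h0Equiv k (structureModule X)).finrank_eq.trans e₀.finrank_eq

variable [IsIntegral X] [IsIntegral Y]

/-- The global functions are algebraically closed in the function field of a normal scheme. -/
theorem mem_range_of_isIntegral (hY : Pi1.IsNormalScheme Y) (z : Y.functionField)
    (hz : (Y.germToFunctionField ⊤).hom.IsIntegralElem z) :
    ∃ s : Γ(Y, ⊤), Y.germToFunctionField ⊤ s = z := by
  refine Groth.Variety2.exists_section_of_forall_stalk ⊤ z fun y hy => ?_
  letI : Algebra Γ(Y, ⊤) Y.functionField := (Y.germToFunctionField ⊤).hom.toAlgebra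
  let := (Y.presheaf.germ ⊤ y hy).hom.toAlgebra
  have : IsScalarTower Γ(Y, ⊤) (Y.presheaf.stalk y) Y.functionField :=
    functionField_isScalarTower Y ⊤ ⟨y, hy⟩
  have := (hY y).2
  have hz' : _root_.IsIntegral Γ(Y, ⊤) z := hz
  exact IsIntegrallyClosed.isIntegral_iff.1 (hz'.tower_top (A := Y.presheaf.stalk y))

variable [IsProper (X ↘ Spec (CommRingCat.of k))] [IsProper (Y ↘ Spec (CommRingCat.of k))]
  (π : X ⟶ Y) [IsFinite π] [Surjective π]

/-- A basis of `Γ(X, O)` over `Γ(Y, O)` independent over the function field of `Y`. -/
theorem exists_independent_family (hπ : π ≫ (Y ↘ Spec (CommRingCat.of k)) = X ↘ Spec (CommRingCat.of k))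
    (hY : Pi1.IsNormalScheme Y)
    (hsep : letI := ffAlg π; Algebra.IsSeparable Y.functionField X.functionField) :
    ∃ (m : ℕ) (c : Fin m → Γ(X, ⊤)), 0 < m ∧
      (letI := ffAlg π; LinearIndependent Y.functionField fun i => X.germToFunctionField ⊤ (c i)) ∧
      Module.finrank k (HH X (structureModule X) 0) =
        m * Module.finrank k (HH Y (structureModule Y) 0) := by
  classical
  letI := ffAlg π
  haveI := hsep
  let R := Γ(Y, ⊤)
  let S := Γ(X, ⊤)
  have hR : IsField R := isField_of_universallyClosed k (Y ↘ Spec (CommRingCat.of k))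
  have hS : IsField S := isField_of_universallyClosed k (X ↘ Spec (CommRingCat.of k))
  let F := hR.toField
  let F' := hS.toField
  letI algR : Algebra k R :=
    RingHom.toAlgebra (show k →+* R from toGlobal (Y ↘ Spec (CommRingCat.of k)))
  letI algS : Algebra k S :=
    RingHom.toAlgebra (show k →+* S from toGlobal (X ↘ Spec (CommRingCat.of k)))
  letI algRS : Algebra R S := RingHom.toAlgebra (show R →+* S from π.appTop.hom)
  haveI : IsScalarTower k R S := IsScalarTower.of_algebraMap_eq fun a => by
    show toGlobal (X ↘ Spec (CommRingCat.of k)) a = π.appTop (toGlobal (Y ↘ Spec (CommRingCat.of k)) a)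
    rw [← hπ]
    rfl
  letI : Algebra R Y.functionField := (Y.germToFunctionField ⊤).hom.toAlgebra
  letI : Algebra S X.functionField := (X.germToFunctionField ⊤).hom.toAlgebra
  letI : Algebra R X.functionField :=
    ((X.germToFunctionField ⊤).hom.comp π.appTop.hom).toAlgebra
  haveI : IsScalarTower R S X.functionField := IsScalarTower.of_algebraMap_eq' rfl
  haveI : IsScalarTower R Y.functionField X.functionField :=
    IsScalarTower.of_algebraMap_eq fun g => (ffMap_germ π ⊤ g).symm
  haveI : Module.Finite k S := by
    have := finite_HH k X (isCoh_of_isInvertible (isInvertible_structureModule X)) 0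
    have := Module.Finite.equiv (h0Equiv k (structureModule X))
    exact Module.Finite.equiv
      ({ (Equiv.refl _ : Γ(X, ⊤) ≃ Γ(X, ⊤)) with
        toFun := fun x => toFun x
        invFun := fun x => x
        map_add' := fun _ _ => rfl
        map_smul' := fun a x => by
          show toFun (a • x) = _
          rw [smul_sec, toFun_smul]
          exact congrArg (· * toFun x) (resX_self _ _) } :
        Γ(structureModule X, (⊤ : X.Opens)) ≃ₗ[k] S)
  haveI : FiniteDimensional R S := Module.Finite.of_restrictScalars_finite k R S
  have hinjS : Function.Injective (algebraMap S X.functionField) :=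
    X.germToFunctionField_injective ⊤
  have hmin : ∀ c : S, minpoly Y.functionField (algebraMap S X.functionField c) =
      (minpoly R c).map (algebraMap R Y.functionField) := by
    intro c
    have hc : _root_.IsIntegral R c := Algebra.IsIntegral.isIntegral c
    have hxR : _root_.IsIntegral R (algebraMap S X.functionField c) := hc.algebraMap
    have hxK : _root_.IsIntegral Y.functionField (algebraMap S X.functionField c) := hxR.tower_top
    have hdvd : minpoly Y.functionField (algebraMap S X.functionField c) ∣
        (minpoly R c).map (algebraMap R Y.functionField) := by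
      refine minpoly.dvd _ _ ?_
      rw [Polynomial.aeval_map_algebraMap, Polynomial.aeval_algebraMap_apply, minpoly.aeval, map_zero]
    obtain ⟨q, hq, -, hqm⟩ := Polynomial.lifts_and_degree_eq_and_monic (f := algebraMap R Y.functionField)
      (show minpoly Y.functionField (algebraMap S X.functionField c) ∈
          Polynomial.lifts (algebraMap R Y.functionField) from by
        rw [Polynomial.lifts_iff_coeff_lifts]
        intro n
        have h := integralClosure.mem_lifts_of_monic_of_dvd_map Y.functionField (minpoly.monic hc)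
          (minpoly.monic hxK) hdvd
        rw [Polynomial.lifts_iff_coeff_lifts] at h
        obtain ⟨w, hw⟩ := h n
        rw [← hw]
        exact mem_range_of_isIntegral hY _ w.2)
      (minpoly.monic hxK)
    have hq0 : Polynomial.aeval c q = 0 := by
      apply hinjS
      rw [← Polynomial.aeval_algebraMap_apply, map_zero,
        ← Polynomial.aeval_map_algebraMap (B := X.functionField) Y.functionField, hq, minpoly.aeval]
    refine (Polynomial.eq_of_monic_of_dvd_of_natDegree_le (minpoly.monic hxK)
      ((minpoly.monic hc).map _) hdvd ?_).symm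
    rw [← hq, (minpoly.monic hc).natDegree_map, hqm.natDegree_map]
    exact Polynomial.natDegree_le_of_dvd (minpoly.dvd R c hq0) hqm.ne_zero
  haveI : Algebra.IsSeparable R S := ⟨fun c => by
    have h := Algebra.IsSeparable.isSeparable Y.functionField (algebraMap S X.functionField c)
    unfold _root_.IsSeparable at h ⊢
    rw [hmin] at h
    exact Polynomial.separable_map _ |>.1 h⟩
  obtain ⟨α, hα⟩ := Field.exists_primitive_element R S
  have hdeg : Module.finrank R S = (minpoly R α).natDegree := by
    rw [← IntermediateField.adjoin.finrank (Algebra.IsIntegral.isIntegral α), hα,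
      IntermediateField.finrank_top']
  refine ⟨Module.finrank R S, fun i => α ^ (i : ℕ), Module.finrank_pos, ?_, ?_⟩
  · have hdeg' : (minpoly Y.functionField (algebraMap S X.functionField α)).natDegree =
        Module.finrank R S := by
      rw [hmin, (minpoly.monic (Algebra.IsIntegral.isIntegral α)).natDegree_map, hdeg]
    have h := (linearIndependent_pow (K := Y.functionField) (algebraMap S X.functionField α)).comp
      (Fin.cast hdeg'.symm) (Fin.cast_injective _)
    convert h using 1
    funext i
    exact map_pow (algebraMap S X.functionField) α i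
  · rw [finrank_h0_eq k _ rfl, finrank_h0_eq k (X := Y) _ rfl]
    exact (Module.finrank_mul_finrank k R S).symm.trans (mul_comm _ _)

/-- The trace of a section times `c`. -/
noncomputable def traceAgainst (hY : Pi1.IsNormalScheme Y) (c : Γ(X, ⊤)) :
    (Scheme.Modules.pushforward π).obj (structureModule X) ⟶ structureModule Y :=
  (Scheme.Modules.pushforward π).map (smulHom (structureModule X) c) ≫ trace π hY

theorem traceAgainst_app (hY : Pi1.IsNormalScheme Y) (c : Γ(X, ⊤)) (U : Y.Opens)
    (s : Γ(X, π ⁻¹ᵁ U)) :
    toFun ((traceAgainst π hY c).app U s) = trFun π hY U (resX X (le_top : π ⁻¹ᵁ U ≤ ⊤) c * s) :=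
  rfl

omit [IsProper (X ↘ Spec (CommRingCat.of k))] [X.Over (Spec (CommRingCat.of k))]
  [Y.Over (Spec (CommRingCat.of k))] [IsProper (Y ↘ Spec (CommRingCat.of k))] in
/-- Traces against an independent family are jointly surjective at the generic point. -/
theorem surjective_stalk_lift (hY : Pi1.IsNormalScheme Y) {m : ℕ} (c : Fin m → Γ(X, ⊤))
    (hc : letI := ffAlg π; LinearIndependent Y.functionField fun i => X.germToFunctionField ⊤ (c i))
    (hsep : letI := ffAlg π; Algebra.IsSeparable Y.functionField X.functionField) :
    Function.Surjective (stalkLin (biproduct.lift fun i => traceAgainst π hY (c i))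
      (genericPoint Y)) := by
  classical
  letI := ffAlg π
  haveI := hsep
  haveI := finiteDimensional π
  let η := genericPoint Y
  let O := structureModule Y
  let Φ := biproduct.lift fun i => traceAgainst π hY (c i)
  obtain ⟨V, hV, hηV, -⟩ := exists_isAffineOpen_mem_and_subset (x := η) (U := (⊤ : Y.Opens)) trivial
  have hne : Nonempty V := ⟨⟨_, hηV⟩⟩
  have := nonempty_preimage π V
  letI : Algebra Γ(X, π ⁻¹ᵁ V) X.functionField := (X.germToFunctionField (π ⁻¹ᵁ V)).hom.toAlgebra
  have := functionField_isFractionRing_of_isAffineOpen X (π ⁻¹ᵁ V) (hV.preimage π)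
  let T := LinearMap.pi (R := Y.functionField) fun i =>
    (Algebra.trace Y.functionField X.functionField).comp
      (LinearMap.mulLeft Y.functionField (X.germToFunctionField ⊤ (c i)))
  have hT : Function.Surjective T := surjective_trace_family hc
  let g : Γ(X, π ⁻¹ᵁ V) → X.functionField := algebraMap Γ(X, π ⁻¹ᵁ V) X.functionField
  have hspan : Submodule.span Y.functionField (Set.range g) = ⊤ := by
    have e : Subalgebra.toSubmodule (Algebra.adjoin Y.functionField (Set.range g)) =
        Submodule.span Y.functionField (Set.range g) := by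
      rw [Algebra.adjoin_eq_span, show (Submonoid.closure (Set.range g) : Set X.functionField) =
        Set.range g from congrArg SetLike.coe
          (Submonoid.closure_eq (MonoidHom.mrange (algebraMap Γ(X, π ⁻¹ᵁ V) X.functionField).toMonoidHom))]
    refine eq_top_iff.2 fun z _ => ?_
    rw [← e]
    obtain ⟨a, b, -, rfl⟩ := IsFractionRing.div_surjective (A := Γ(X, π ⁻¹ᵁ V)) z
    rw [div_eq_mul_inv, Subalgebra.mem_toSubmodule]
    exact mul_mem (Algebra.subset_adjoin ⟨a, rfl⟩)
      ((Algebra.adjoin Y.functionField (Set.range g)).inv_mem_of_algebraic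
        (x := ⟨_, Algebra.subset_adjoin ⟨b, rfl⟩⟩) (Algebra.IsAlgebraic.isAlgebraic _))
  let val : (⨁ fun _ : Fin m => O).presheaf.stalk η →ₗ[Y.functionField]
      (Fin m → Y.functionField) :=
    LinearMap.pi fun i => (Groth.RefRank.oneEquiv η).symm.toLinearMap.comp
      (stalkLin (biproduct.π (fun _ : Fin m => O) i) η)
  have hval : Function.Injective val := by
    refine (injective_iff_map_eq_zero _).2 fun z hz => ?_
    have hi : ∀ i, stalkLin (biproduct.π (fun _ : Fin m => O) i) η z = 0 := fun i => by
      have h := congrFun hz i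
      exact (Groth.RefRank.oneEquiv η).symm.map_eq_zero_iff.1 h
    calc z = stalkLin (𝟙 (⨁ fun _ : Fin m => O)) η z := (Groth.CohTwo.stalkLin_id _ _ _).symm
      _ = 0 := by
        rw [← biproduct.total]
        show (Groth.QCohMod.stalk η).map
          (∑ i : Fin m, biproduct.π (fun _ => O) i ≫ biproduct.ι (fun _ => O) i) z = 0
        rw [Functor.map_sum]
        refine (map_sum ((AddMonoidHom.eval z).comp AddCommGrpCat.homAddEquiv.toAddMonoidHom)
          (fun i : Fin m => (Groth.QCohMod.stalk η).map
            (biproduct.π (fun _ => O) i ≫ biproduct.ι (fun _ => O) i)) Finset.univ).trans ?_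
        refine Finset.sum_eq_zero fun i _ => ?_
        show stalkLin (biproduct.π (fun _ => O) i ≫ biproduct.ι (fun _ => O) i) η z = 0
        rw [stalkLin_comp, hi, map_zero]
  have hkey : ∀ b : Γ(X, π ⁻¹ᵁ V),
      val (stalkLin Φ η (((Scheme.Modules.pushforward π).obj (structureModule X)).presheaf.germ V η hηV
        (show Γ((Scheme.Modules.pushforward π).obj (structureModule X), V) from b))) = T (g b) := by
    intro b
    funext i
    show (Groth.RefRank.oneEquiv η).symm (stalkLin (biproduct.π _ i) η (stalkLin Φ η _)) = _
    rw [← stalkLin_comp, biproduct.lift_π, stalkLin_germ, LinearEquiv.symm_apply_eq,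
      Groth.RefRank.oneEquiv_apply]
    refine Eq.trans ?_ (congrArg (· • Groth.RefRank.oneGerm η)
      (?_ : Y.germToFunctionField V (trFun π hY V (resX X (le_top : π ⁻¹ᵁ V ≤ ⊤) (c i) * b)) = _))
    · exact (Groth.RefRank.smul_oneGerm η hηV _).symm
    · rw [trFun_spec, map_mul, resX_germFF]
      rfl
  let W := (LinearMap.range (stalkLin Φ η)).map val
  intro z
  have hW : W = ⊤ := by
    refine eq_top_iff.2 fun w _ => ?_
    obtain ⟨y, rfl⟩ := hT w
    have : Submodule.span Y.functionField (Set.range g) ≤ W.comap T := by
      refine Submodule.span_le.2 ?_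
      rintro _ ⟨b, rfl⟩
      exact ⟨_, LinearMap.mem_range_self _ _, hkey b⟩
    exact (hspan ▸ this) Submodule.mem_top
  obtain ⟨z', hz', hzz⟩ : val z ∈ W := hW ▸ Submodule.mem_top
  obtain ⟨w, rfl⟩ := hz'
  exact ⟨w, hval hzz⟩

/-- **`h¹(O_X) ≥ m · h¹(O_Y)` and `h⁰(O_X) = m · h⁰(O_Y)`.** -/
theorem exists_mul_le_genus (hdim : topologicalKrullDim Y ≤ 1)
    (hπ : π ≫ (Y ↘ Spec (CommRingCat.of k)) = X ↘ Spec (CommRingCat.of k))
    (hY : Pi1.IsNormalScheme Y)
    (hsep : letI := ffAlg π; Algebra.IsSeparable Y.functionField X.functionField) :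
    ∃ m : ℕ, 0 < m ∧
      Module.finrank k (HH X (structureModule X) 0) =
        m * Module.finrank k (HH Y (structureModule Y) 0) ∧
      m * Curv2.genus k Y ≤ Curv2.genus k X := by
  classical
  obtain ⟨m, c, hm, hc, h0⟩ := exists_independent_family k π hπ hY hsep
  refine ⟨m, hm, h0, ?_⟩
  have := noetherianSpace_of_proper k Y
  have := isNoetherian_of_proper k Y
  let O := structureModule Y
  let P := (Scheme.Modules.pushforward π).obj (structureModule X)
  have hO : IsCoh (structureModule X) := isCoh_of_isInvertible (isInvertible_structureModule X)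
  let Φ := biproduct.lift fun i => traceAgainst π hY (c i)
  have hΦ : Function.Surjective (hMap k Φ 1) := by
    refine Groth.Curves1.RR.Red.surjective_h1 k hdim Φ fun η hη => ?_
    have hη' : η = genericPoint Y :=
      (@eq_of_specializes_of_not_isClosed Y.toTopCat (inferInstanceAs (T0Space Y))
        (inferInstanceAs (QuasiSober Y)) hdim η (genericPoint Y) hη
        ((genericPoint_spec Y).specializes trivial)).symm
    subst hη'
    exact surjective_stalk_lift π hY c hc hsep
  let Ψ : HH Y (⨁ fun _ : Fin m => O) 1 →ₗ[k] (Fin m → HH Y O 1) :=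
    LinearMap.pi fun i => hMap k (biproduct.π (fun _ => O) i) 1
  have hΨ : Function.Surjective Ψ := fun v => by
    refine ⟨∑ i, hMap k (biproduct.ι (fun _ : Fin m => O) i) 1 (v i), funext fun i => ?_⟩
    show hMap k (biproduct.π (fun _ => O) i) 1 _ = v i
    rw [map_sum, Finset.sum_eq_single i]
    · rw [← Groth.Curves1.RR.Red.hMap_comp_apply, biproduct.ι_π_self, hMap_id]
      rfl
    · intro j _ hj
      rw [← Groth.Curves1.RR.Red.hMap_comp_apply, biproduct.ι_π_ne _ hj,
        Groth.Curves1.RR.Red.hMap_zero_apply]
    · exact fun h => absurd (Finset.mem_univ i) h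
  have : CompactSpace X := QuasiCompact.compactSpace_of_compactSpace (X ↘ Spec (CommRingCat.of k))
  have := Groth.HilbStab.BC.isSeparated_of_proper k X
  have := Groth.HilbStab.BC.isSeparated_of_proper k Y
  have := hO.1
  obtain ⟨e⟩ := Groth.CohFin.nonempty_linearEquiv_push π (Y ↘ Spec (CommRingCat.of k)) 1 (structureModule X)
  have he : Module.finrank k (HH Y P 1) = Curv2.genus k X := by
    have h := e.finrank_eq
    rw [hπ] at h
    exact h
  have := finite_HH k Y (M := P) (Groth.CohC3.isCoh_pushforward hπ hO) 1
  rw [← he]
  refine le_of_eq_of_le ?_ (LinearMap.finrank_le_finrank_of_surjective (f := Ψ.comp (hMap k Φ 1))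
    (hΨ.comp hΦ))
  have := finite_HH k Y (isCoh_of_isInvertible (isInvertible_structureModule Y)) 1
  rw [Module.finrank_pi_fintype, Finset.sum_const, Finset.card_univ, Fintype.card_fin, smul_eq_mul]
  rfl

end Groth.Curves1.TraceMap
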